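import Mathlib.NumberTheory.PrimeCounting
import Mathlib.Data.Nat.Choose.Factorization
import Mathlib.Tactic.Linarith

/-!
# Lists of primes with small gaps

For `32 * 2 ^ i ≤ k` every integer `m` in a long enough range has a prime in `(m - k, m]`.
-/

set_option autoImplicit false
set_option maxRecDepth 100000

namespace CfsgLib.Char.SylvesterSchur

/-- Trial division by the numbers below `512`. -/
def trial (p : ℕ) : Bool :=
  decide (2 ≤ p) && decide (p < 262144) &&
    (List.range 512).all fun d => decide (d < 2) || decide (p ≤ d) || p % d != 0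

theorem prime_of_trial {p : ℕ} (h : trial p = true) : p.Prime := by
  simp only [trial, Bool.and_eq_true, decide_eq_true_eq, List.all_eq_true, List.mem_range,
    Bool.or_eq_true, bne_iff_ne] at h
  obtain ⟨⟨h2, hlt⟩, hd⟩ := h
  by_contra hp
  have h1 := Nat.minFac_sq_le_self (by omega) hp
  have h3 := (Nat.minFac_prime (show p ≠ 1 by omega)).two_le
  have h4 : p.minFac < 512 := by nlinarith
  rcases hd _ h4 with (h5 | h5) | h5
  · omega
  · nlinarith
  · exact h5 (Nat.mod_eq_zero_of_dvd (Nat.minFac_dvd p))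

/-- A list with steps at most `g`. -/
def steps (g : ℕ) : List ℕ → Bool
  | [] => true
  | [_] => true
  | a :: b :: l => decide (b ≤ a + g) && steps g (b :: l)

theorem exists_mem_interval {g : ℕ} : ∀ {l : List ℕ} {a : ℕ}, steps g (a :: l) = true → ∀ {m : ℕ},
    a ≤ m → m < (a :: l).getLast (List.cons_ne_nil a l) + g → ∃ p ∈ a :: l, p ≤ m ∧ m < p + g := by
  intro l
  induction l with
  | nil => exact fun {a} _ {m} h1 h2 => ⟨a, List.mem_cons_self .., h1, by simpa using h2⟩
  | cons b l ih =>
    intro a hs m h1 h2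
    simp only [steps, Bool.and_eq_true, decide_eq_true_eq] at hs
    by_cases hm : m < a + g
    · exact ⟨a, List.mem_cons_self .., h1, hm⟩
    · obtain ⟨p, hp, hp'⟩ := ih hs.2 (m := m) (by omega) (by simpa using h2)
      exact ⟨p, List.mem_cons_of_mem _ hp, hp'⟩

/-- A certified interval. -/
theorem prime_in_interval {g : ℕ} {l : List ℕ} {a : ℕ} (hs : steps g (a :: l) = true)
    (ht : (a :: l).all trial = true) {k m : ℕ} (hk : g ≤ k) (h1 : a ≤ m)
    (h2 : m < (a :: l).getLast (List.cons_ne_nil a l) + g) : ∃ p : ℕ, p.Prime ∧ p ≤ m ∧ m < p + k := by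
  obtain ⟨p, hp, hp1, hp2⟩ := exists_mem_interval hs h1 h2
  exact ⟨p, prime_of_trial (List.all_eq_true.1 ht p hp), hp1, by omega⟩

/-- The primes for `32 ≤ k < 64`. -/
def chain5 : List ℕ :=
  [89, 113, 139, 167, 199, 229, 257, 283, 313, 337, 367, 397, 421, 449, 479]

theorem range5 {k m : ℕ} (hk : 32 ≤ k) (h1 : 64 ≤ m) (h2 : m ≤ 500) :
    ∃ p : ℕ, p.Prime ∧ p ≤ m ∧ m < p + k :=
  prime_in_interval (g := 32) (a := 61) (l := chain5) (by decide +kernel) (by decide +kernel) hk
    (by omega) (lt_of_le_of_lt h2 (by decide +kernel))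

/-- The primes for `64 ≤ k < 128`. -/
def chain6 : List ℕ :=
  [191, 251, 313, 373, 433, 491, 547, 607, 661, 719, 773, 829, 887, 947, 1009, 1069, 1129, 1193,
    1249, 1307, 1367, 1429]

theorem range6 {k m : ℕ} (hk : 64 ≤ k) (h1 : 128 ≤ m) (h2 : m ≤ 1431) :
    ∃ p : ℕ, p.Prime ∧ p ≤ m ∧ m < p + k :=
  prime_in_interval (g := 64) (a := 127) (l := chain6) (by decide +kernel) (by decide +kernel) hk
    (by omega) (lt_of_le_of_lt h2 (by decide +kernel))

/-- The primes for `128 ≤ k < 256`. -/
def chain7 : List ℕ :=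
  [379, 503, 631, 757, 883, 1009, 1129, 1249, 1373, 1499, 1627, 1753, 1879, 2003, 2131, 2251,
    2377, 2503, 2621, 2749, 2861, 2971, 3089, 3217, 3343, 3469, 3593, 3719, 3847, 3967]

theorem range7 {k m : ℕ} (hk : 128 ≤ k) (h1 : 256 ≤ m) (h2 : m ≤ 4072) :
    ∃ p : ℕ, p.Prime ∧ p ≤ m ∧ m < p + k :=
  prime_in_interval (g := 128) (a := 251) (l := chain7) (by decide +kernel) (by decide +kernel) hk
    (by omega) (lt_of_le_of_lt h2 (by decide +kernel))

/-- The primes for `256 ≤ k < 512`. -/
def chain8 : List ℕ :=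
  [761, 1013, 1259, 1511, 1759, 2011, 2267, 2521, 2777, 3023, 3271, 3527, 3779, 4027, 4283, 4523,
    4759, 5011, 5261, 5507, 5749, 5987, 6229, 6481, 6737, 6991, 7247, 7499, 7753, 8009, 8263,
    8513, 8761, 9013, 9257, 9511, 9767, 10009, 10259, 10513, 10753, 11003, 11257, 11503]

theorem range8 {k m : ℕ} (hk : 256 ≤ k) (h1 : 512 ≤ m) (h2 : m ≤ 11551) :
    ∃ p : ℕ, p.Prime ∧ p ≤ m ∧ m < p + k :=
  prime_in_interval (g := 256) (a := 509) (l := chain8) (by decide +kernel) (by decide +kernel) hk
    (by omega) (lt_of_le_of_lt h2 (by decide +kernel))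

/-- The primes for `512 ≤ k < 1024`. -/
def chain9 : List ℕ :=
  [1531, 2039, 2551, 3061, 3571, 4079, 4591, 5101, 5591, 6101, 6607, 7109, 7621, 8123, 8629,
    9137, 9649, 10159, 10667, 11177, 11689, 12197, 12703, 13187, 13697, 14207, 14717, 15227,
    15739, 16249, 16759, 17257, 17761, 18269, 18773, 19273, 19777, 20287, 20789, 21283, 21787,
    22291, 22787, 23297, 23801, 24281, 24793, 25303, 25801, 26309, 26821, 27329, 27827, 28319,
    28817, 29327, 29837, 30347, 30859, 31357, 31859, 32371]

theorem range9 {k m : ℕ} (hk : 512 ≤ k) (h1 : 1024 ≤ m) (h2 : m ≤ 32720) :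
    ∃ p : ℕ, p.Prime ∧ p ≤ m ∧ m < p + k :=
  prime_in_interval (g := 512) (a := 1021) (l := chain9) (by decide +kernel) (by decide +kernel) hk
    (by omega) (lt_of_le_of_lt h2 (by decide +kernel))

/-- The primes for `1024 ≤ k < 2048`. -/
def chain10 : List ℕ :=
  [3061, 4079, 5101, 6121, 7129, 8147, 9161, 10181, 11197, 12211, 13229, 14251, 15271, 16273,
    17293, 18313, 19333, 20357, 21379, 22397, 23417, 24439, 25463, 26479, 27487, 28499, 29501,
    30517, 31541, 32563, 33587, 34607, 35617, 36637, 37657, 38677, 39679, 40699, 41719, 42743,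
    43759, 44777, 45779, 46771, 47791, 48809, 49831, 50849, 51871, 52889, 53899, 54919, 55933,
    56957, 57977, 58997, 60017, 61031, 62053, 63073, 64091, 65111, 66109, 67129, 68147, 69163,
    70183, 71191, 72211, 73189, 74209, 75227, 76249, 77269, 78283, 79301, 80317, 81331, 82351,
    83357, 84377, 85381, 86399, 87421, 88427, 89449, 90473, 91493, 92507]

theorem range10 {k m : ℕ} (hk : 1024 ≤ k) (h1 : 2048 ≤ m) (h2 : m ≤ 92614) :
    ∃ p : ℕ, p.Prime ∧ p ≤ m ∧ m < p + k :=
  prime_in_interval (g := 1024) (a := 2039) (l := chain10) (by decide +kernel) (by decide +kernel) hk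
    (by omega) (lt_of_le_of_lt h2 (by decide +kernel))

/-- The primes for `2048 ≤ k < 4096`. -/
def chain11 : List ℕ :=
  [6133, 8179, 10223, 12269, 14303, 16349, 18397, 20443, 22483, 24527, 26573, 28621, 30661,
    32707, 34747, 36793, 38839, 40883, 42929, 44971, 47017, 49057, 51071, 53117, 55163, 57203,
    59243, 61291, 63337, 65381, 67429, 69473, 71503, 73547, 75583, 77621, 79669, 81707, 83737,
    85781, 87811, 89849, 91873, 93913, 95959, 97987, 100019, 102061, 104107, 106129, 108161,
    110183, 112223, 114269, 116293, 118297, 120331, 122363, 124367, 126397, 128437, 130483,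
    132529, 134513, 136559, 138599, 140639, 142673, 144719, 146767, 148793, 150833, 152879,
    154927, 156971, 159017, 161059, 163063, 165103, 167149, 169181, 171203, 173249, 175291,
    177337, 179383, 181421, 183461, 185491, 187531, 189559, 191599, 193619, 195659, 197699,
    199741, 201787, 203821, 205847, 207877, 209917, 211949, 213989, 216037, 218083, 220123,
    222163, 224209, 226241, 228281, 230327, 232367, 234383, 236429, 238477, 240517, 242551,
    244597, 246643, 248683, 250727, 252767, 254803, 256831, 258871, 260893]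

theorem range11 {k m : ℕ} (hk : 2048 ≤ k) (h1 : 4096 ≤ m) (h2 : m ≤ 262048) :
    ∃ p : ℕ, p.Prime ∧ p ≤ m ∧ m < p + k :=
  prime_in_interval (g := 2048) (a := 4093) (l := chain11) (by decide +kernel) (by decide +kernel) hk
    (by omega) (lt_of_le_of_lt h2 (by decide +kernel))

/-- A prime in `(m - k, m]` for `32 ≤ k < 4096`, `2 k ≤ m` and `m² ≤ k³`. -/
theorem prime_near {k m : ℕ} (hk : 32 ≤ k) (hk' : k < 4096) (hm : 2 * k ≤ m) (hsq : m ^ 2 ≤ k ^ 3) :
    ∃ p : ℕ, p.Prime ∧ p ≤ m ∧ m < p + k := by
  have key : ∀ K B : ℕ, k ≤ K → K ^ 3 < (B + 1) ^ 2 → m ≤ B := fun K B h1 h2 => by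
    by_contra h
    have := Nat.pow_le_pow_left h1 3
    have := Nat.pow_le_pow_left (show B + 1 ≤ m by omega) 2
    omega
  by_cases h5 : k < 64
  · exact range5 (by omega) (by omega) (key 63 500 (by omega) (by norm_num))
  by_cases h6 : k < 128
  · exact range6 (by omega) (by omega) (key 127 1431 (by omega) (by norm_num))
  by_cases h7 : k < 256
  · exact range7 (by omega) (by omega) (key 255 4072 (by omega) (by norm_num))
  by_cases h8 : k < 512
  · exact range8 (by omega) (by omega) (key 511 11551 (by omega) (by norm_num))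
  by_cases h9 : k < 1024
  · exact range9 (by omega) (by omega) (key 1023 32720 (by omega) (by norm_num))
  by_cases h10 : k < 2048
  · exact range10 (by omega) (by omega) (key 2047 92614 (by omega) (by norm_num))
  exact range11 (by omega) (by omega) (key 4095 262048 (by omega) (by norm_num))

end CfsgLib.Char.SylvesterSchur
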