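import Cfsg.Agent.Lib.Char.SylvesterSchur.Gaps
import Mathlib.Data.Nat.Factorial.BigOperators
import Mathlib.NumberTheory.Primorial
import Mathlib.Data.Nat.Choose.Central

/-!
# The theorem of Sylvester and Schur

For `1 ≤ k` and `2 k ≤ m` the binomial coefficient `m.choose k` has a prime divisor exceeding `k`.
The proof is the elementary one of Erdős.
-/

set_option autoImplicit false
set_option maxRecDepth 100000

open scoped Nat Nat.Prime
open Finset

namespace CfsgLib.Char.SylvesterSchur

/-- All prime divisors of `m.choose k` are at most `k`. -/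
def Smooth (m k : ℕ) : Prop := ∀ p : ℕ, p.Prime → p ∣ m.choose k → p ≤ k

theorem prime_dvd_choose {m k i p : ℕ} (hp : p.Prime) (hkp : k < p) (hi : i < k)
    (hd : p ∣ m - i) : p ∣ m.choose k := by
  have h1 : p ∣ m.descFactorial k := by
    rw [Nat.descFactorial_eq_prod_range]
    exact hd.trans (Finset.dvd_prod_of_mem _ (Finset.mem_range.2 hi))
  rw [Nat.descFactorial_eq_factorial_mul_choose] at h1
  exact (hp.dvd_mul.1 h1).resolve_left fun h => by have := hp.dvd_factorial.1 h; omega

/-- `m.choose k` is the product of its prime power parts below `k`. -/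
theorem choose_eq_prod {m k : ℕ} (h : Smooth m k) (hk : k ≤ m) :
    m.choose k = ∏ p ∈ (k + 1).primesBelow, p ^ (m.choose k).factorization p := by
  conv_lhs => rw [← Nat.prod_pow_factorization_choose m k hk]
  symm
  refine Finset.prod_subset (fun p hp => ?_) fun p _ hp => ?_
  · rw [Nat.primesBelow_eq_filter_range, Finset.mem_filter, Finset.mem_range] at hp
    rw [Finset.mem_range]; omega
  · rw [Nat.primesBelow_eq_filter_range, Finset.mem_filter, Finset.mem_range] at hp
    have : (m.choose k).factorization p = 0 := by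
      by_contra h0
      exact hp ⟨by
        have := h p (Nat.prime_of_mem_primeFactors (Finsupp.mem_support_iff.2 h0 : p ∈ (m.choose k).primeFactors))
          (Nat.dvd_of_factorization_pos h0)
        omega, Nat.prime_of_mem_primeFactors (Finsupp.mem_support_iff.2 h0 : p ∈ (m.choose k).primeFactors)⟩
    rw [this, pow_zero]

/-- Each prime power part is at most `m`. -/
theorem choose_le_pow {m k : ℕ} (h : Smooth m k) (hk : k ≤ m) (hm : 0 < m) :
    m.choose k ≤ m ^ π k := by
  rw [choose_eq_prod h hk, Nat.primeCounting, ← Nat.primesBelow_card_eq_primeCounting',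
    ← Finset.prod_const]
  exact Finset.prod_le_prod' fun p _ => Nat.pow_factorization_choose_le hm

/-- Large primes occur at most once. -/
theorem choose_le_split {m k B : ℕ} (h : Smooth m k) (hk : k ≤ m) (hm : 0 < m)
    (hB : ∀ p, p.Prime → B < p → p ≤ k → Nat.sqrt m < p → (m.choose k).factorization p = 0) :
    m.choose k ≤ m ^ π (Nat.sqrt m) * 4 ^ B := by
  rw [choose_eq_prod h hk,
    ← Finset.prod_filter_mul_prod_filter_not (k + 1).primesBelow (fun p => p ≤ Nat.sqrt m)]
  refine Nat.mul_le_mul ?_ ?_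
  · refine (Finset.prod_le_prod' fun p _ => Nat.pow_factorization_choose_le hm).trans ?_
    rw [Finset.prod_const, Nat.primeCounting, ← Nat.primesBelow_card_eq_primeCounting']
    refine Nat.pow_le_pow_right hm (Finset.card_le_card fun p hp => ?_)
    rw [Finset.mem_filter, Nat.primesBelow_eq_filter_range, Finset.mem_filter] at hp
    rw [Nat.primesBelow_eq_filter_range, Finset.mem_filter, Finset.mem_range]
    exact ⟨by omega, hp.1.2⟩
  · refine le_trans ?_ (primorial_le_four_pow B)
    rw [primorial]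
    calc ∏ p ∈ ((k + 1).primesBelow).filter (fun p => ¬ p ≤ Nat.sqrt m),
          p ^ (m.choose k).factorization p
        = ∏ p ∈ ((k + 1).primesBelow).filter (fun p => ¬ p ≤ Nat.sqrt m ∧ p ≤ B),
          p ^ (m.choose k).factorization p := by
          symm
          refine Finset.prod_subset (fun p hp => ?_) fun p hp hp' => ?_
          · rw [Finset.mem_filter] at hp ⊢; exact ⟨hp.1, hp.2.1⟩
          · rw [Finset.mem_filter] at hp
            have hpB : B < p := by
              by_contra hle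
              exact hp' (Finset.mem_filter.2 ⟨hp.1, hp.2, by omega⟩)
            obtain ⟨hp1, hp2⟩ := hp
            rw [Nat.primesBelow_eq_filter_range, Finset.mem_filter, Finset.mem_range] at hp1
            rw [hB p hp1.2 hpB (by omega) (by omega), pow_zero]
      _ ≤ ∏ p ∈ ((k + 1).primesBelow).filter (fun p => ¬ p ≤ Nat.sqrt m ∧ p ≤ B), p := by
          refine Finset.prod_le_prod' fun p hp => ?_
          rw [Finset.mem_filter, Nat.primesBelow_eq_filter_range, Finset.mem_filter] at hp
          have h1 : (m.choose k).factorization p ≤ 1 := Nat.factorization_choose_le_one (by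
            have : (Nat.sqrt m).succ ≤ p := by omega
            calc m < (Nat.sqrt m).succ ^ 2 := Nat.lt_succ_sqrt' m
              _ ≤ p ^ 2 := Nat.pow_le_pow_left this 2)
          calc p ^ (m.choose k).factorization p ≤ p ^ 1 := Nat.pow_le_pow_right hp.1.2.pos h1
            _ = p := pow_one p
      _ ≤ ∏ p ∈ range (B + 1) with p.Prime, p := by
          refine Finset.prod_le_prod_of_subset_of_one_le' (fun p hp => ?_) fun p hp _ => ?_
          · rw [Finset.mem_filter, Nat.primesBelow_eq_filter_range, Finset.mem_filter] at hp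
            rw [Finset.mem_filter, Finset.mem_range]
            exact ⟨by omega, hp.1.2⟩
          · exact (Finset.mem_filter.1 hp).2.pos

theorem pow_mul_prod_range (a k : ℕ) {f : ℕ → ℕ} :
    ∏ i ∈ range k, a * f i = a ^ k * ∏ i ∈ range k, f i := by
  rw [Finset.prod_mul_distrib, Finset.prod_const, Finset.card_range]

theorem pow_le_choose {m k : ℕ} (hk : k ≤ m) : m ^ k ≤ k ^ k * m.choose k := by
  refine Nat.le_of_mul_le_mul_right ?_ k.factorial_pos
  rw [mul_assoc, mul_comm (m.choose k), ← Nat.descFactorial_eq_factorial_mul_choose,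
    Nat.descFactorial_eq_prod_range, ← Nat.descFactorial_self, Nat.descFactorial_eq_prod_range,
    ← pow_mul_prod_range m k, ← pow_mul_prod_range k k]
  refine Finset.prod_le_prod' fun i hi => ?_
  have hi' := Finset.mem_range.1 hi
  rw [Nat.mul_sub, Nat.mul_sub, mul_comm m k]
  have : k * i ≤ m * i := Nat.mul_le_mul_right i hk
  omega

theorem two_mul_pow_le_choose {m k : ℕ} (hk0 : 0 < k) (hk : 2 * k ≤ m) :
    (2 * m) ^ k ≤ 2 * k * k ^ k * m.choose k := by
  have h1 : 4 ^ k ≤ 2 * k * (2 * k).choose k := Nat.four_pow_le_two_mul_self_mul_centralBinom k hk0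
  have h2 : m ^ k * (2 * k).choose k ≤ (2 * k) ^ k * m.choose k := by
    refine Nat.le_of_mul_le_mul_right ?_ k.factorial_pos
    rw [mul_assoc, mul_comm ((2 * k).choose k), ← Nat.descFactorial_eq_factorial_mul_choose, mul_assoc,
      mul_comm (m.choose k), ← Nat.descFactorial_eq_factorial_mul_choose,
      Nat.descFactorial_eq_prod_range, Nat.descFactorial_eq_prod_range,
      ← pow_mul_prod_range m k, ← pow_mul_prod_range (2 * k) k]
    refine Finset.prod_le_prod' fun i hi => ?_
    have hi' := Finset.mem_range.1 hi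
    rw [Nat.mul_sub, Nat.mul_sub, mul_comm m (2 * k)]
    have : 2 * k * i ≤ m * i := Nat.mul_le_mul_right i hk
    omega
  refine Nat.le_of_mul_le_mul_right (c := 2 ^ k) ?_ (by positivity)
  calc (2 * m) ^ k * 2 ^ k = m ^ k * 4 ^ k := by
        rw [mul_pow, show (4 : ℕ) = 2 * 2 from rfl, mul_pow]; ring
    _ ≤ m ^ k * (2 * k * (2 * k).choose k) := Nat.mul_le_mul_left _ h1
    _ = 2 * k * (m ^ k * (2 * k).choose k) := by ring
    _ ≤ 2 * k * ((2 * k) ^ k * m.choose k) := Nat.mul_le_mul_left _ h2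
    _ = 2 * k * k ^ k * m.choose k * 2 ^ k := by rw [mul_pow]; ring

/-! ### Counting primes -/

theorem three_mul_primeCounting {k : ℕ} (hk : 33 ≤ k) : 3 * π k ≤ k := by
  rcases Nat.lt_or_ge k 155 with h | h
  · revert k; decide +kernel
  · have h1 := Nat.primeCounting'_add_le (a := 30) (k := 31) (by norm_num) (by norm_num) (k - 30)
    rw [show 31 + (k - 30) = k + 1 by omega, show Nat.totient 30 = 8 by decide +kernel,
      show Nat.primeCounting' 31 = 10 by decide +kernel] at h1
    have h1' : π k ≤ 10 + 8 * ((k - 30) / 30 + 1) := h1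
    omega

theorem two_mul_primeCounting (t : ℕ) : 2 * π t ≤ t + 2 := by
  rcases Nat.lt_or_ge t 3 with h | h
  · revert t; decide +kernel
  · have h1 := Nat.primeCounting'_add_le (a := 2) (k := 3) (by norm_num) (by norm_num) (t - 2)
    rw [show 3 + (t - 2) = t + 1 by omega, show Nat.totient 2 = 1 by decide +kernel,
      show Nat.primeCounting' 3 = 1 by decide +kernel] at h1
    have h1' : π t ≤ 1 + 1 * ((t - 2) / 2 + 1) := h1
    omega

/-! ### The small cases -/

/-- Some number in `(m - k, m]` is not `k`-smooth, tested with factorials. -/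
def small (k m : ℕ) : Bool :=
  decide (m < 2 * k) || (List.range k).any fun i => (k !) ^ 8 % (m - i) != 0

theorem small_table : ∀ k < 33, 1 ≤ k → ∀ m < 212, small k m = true := by decide +kernel

theorem small_bound : ∀ k < 33, 2 ≤ k → π k ≤ k ∧ k ^ k < 212 ^ (k - π k) := by decide +kernel

theorem not_smooth_of_lt {m k : ℕ} (hk : 1 ≤ k) (hk' : k < 33) (hm : 2 * k ≤ m) : ¬ Smooth m k := by
  intro h
  by_cases hm' : m < 212
  · have h1 := small_table k hk' hk m hm'
    simp only [small, Bool.or_eq_true, decide_eq_true_eq, List.any_eq_true, List.mem_range,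
      bne_iff_ne] at h1
    obtain ⟨i, hi, hne⟩ := h1.resolve_left (by omega)
    refine hne (Nat.mod_eq_zero_of_dvd ((Nat.factorization_le_iff_dvd (by omega)
      (pow_ne_zero _ k.factorial_ne_zero)).1 fun p => ?_))
    by_cases hp : (m - i).factorization p = 0
    · simp [hp]
    have hpp := Nat.prime_of_mem_primeFactors
      (Finsupp.mem_support_iff.2 hp : p ∈ (m - i).primeFactors)
    have hpd := Nat.dvd_of_factorization_pos hp
    have hpk : p ≤ k := by
      by_contra hlt
      exact hlt (h p hpp (prime_dvd_choose hpp (by omega) hi hpd))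
    have h8 : (m - i).factorization p < 8 := by
      by_contra hge
      have h2 : p ^ 8 ∣ m - i :=
        (hpp.pow_dvd_iff_le_factorization (by omega)).2 (by omega)
      have h3 := Nat.le_of_dvd (by omega) h2
      have h4 := Nat.pow_le_pow_left hpp.two_le 8
      omega
    have h1 : 1 ≤ (k !).factorization p :=
      hpp.factorization_pos_of_dvd k.factorial_ne_zero (hpp.dvd_factorial.2 hpk)
    rw [Nat.factorization_pow]
    simp only [Finsupp.smul_apply, smul_eq_mul]
    omega
  · rcases Nat.lt_or_ge k 2 with hk2 | hk2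
    · have hk1 : k = 1 := by omega
      subst hk1
      obtain ⟨p, hp, hpd⟩ := Nat.exists_prime_and_dvd (show m ≠ 1 by omega)
      have := h p hp (by rwa [Nat.choose_one_right])
      have := hp.two_le
      omega
    obtain ⟨hπ, hb⟩ := small_bound k hk' hk2
    have h2 := choose_le_pow h (by omega) (by omega)
    have h3 : m ^ k ≤ k ^ k * m ^ π k :=
      (pow_le_choose (by omega)).trans (Nat.mul_le_mul_left _ h2)
    rw [← Nat.sub_add_cancel hπ, pow_add] at h3
    rw [Nat.sub_add_cancel hπ] at h3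
    have h4 : m ^ (k - π k) ≤ k ^ k := Nat.le_of_mul_le_mul_right h3 (pow_pos (by omega) _)
    have h5 := Nat.pow_le_pow_left (show 212 ≤ m by omega) (k - π k)
    omega

theorem sq_le_cube {m k : ℕ} (h : Smooth m k) (hk : 33 ≤ k) (hm : 2 * k ≤ m) : m ^ 2 ≤ k ^ 3 := by
  have hπ := three_mul_primeCounting hk
  have h2 := choose_le_pow h (by omega) (by omega)
  have h3 : m ^ k ≤ k ^ k * m ^ π k :=
    (pow_le_choose (by omega)).trans (Nat.mul_le_mul_left _ h2)
  refine Nat.pow_le_pow_iff_left (show k ≠ 0 by omega) |>.1 ?_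
  have h4 : m ^ (3 * k) ≤ k ^ (3 * k) * m ^ (3 * π k) := by
    have := Nat.pow_le_pow_left h3 3
    rwa [mul_pow, ← pow_mul, ← pow_mul, ← pow_mul, mul_comm k 3, mul_comm (π k) 3] at this
  have h5 : m ^ (3 * π k) ≤ m ^ k := Nat.pow_le_pow_right (by omega) hπ
  have h6 : m ^ (3 * k) ≤ k ^ (3 * k) * m ^ k := h4.trans (Nat.mul_le_mul_left _ h5)
  rw [show 3 * k = 2 * k + k by ring, pow_add] at h6
  have h7 := Nat.le_of_mul_le_mul_right h6 (pow_pos (by omega) _)
  rwa [← pow_mul, ← pow_mul, show (3 * k) = 2 * k + k by ring]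

/-! ### The large cases -/

theorem exp_bound_linear : ∀ L, 12 ≤ L → 18 * (L + 3) ^ 2 ≤ 2 ^ L := by
  intro L hL
  induction L, hL using Nat.le_induction with
  | base => norm_num
  | succ L hL ih => rw [pow_succ 2]; nlinarith

theorem exp_bound_linear' : ∀ L, 12 ≤ L → 14 * (L + 5) ^ 2 ≤ 2 ^ L := by
  intro L hL
  induction L, hL using Nat.le_induction with
  | base => norm_num
  | succ L hL ih => rw [pow_succ 2]; nlinarith

theorem exp_bound_quartic : ∀ L, 12 ≤ L → (L + 1) ^ 4 ≤ 8 * 2 ^ L := by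
  intro L hL
  induction L, hL using Nat.le_induction with
  | base => norm_num
  | succ L hL ih =>
    have h : (L + 1 + 1) ^ 4 * 13 ^ 4 ≤ (L + 1) ^ 4 * 14 ^ 4 := by
      rw [← mul_pow, ← mul_pow]
      exact Nat.pow_le_pow_left (by omega) 4
    rw [pow_succ 2]
    omega

/-- `2 ^ e ≤ 2 k * m ^ s` bounds the exponent. -/
theorem exponent_le {e k m s L w : ℕ} (h : 2 ^ e ≤ 2 * k * m ^ s) (hk : k < 2 ^ (L + 1))
    (hm : m ≤ 2 ^ w) : e ≤ L + 2 + w * s := by
  refine (Nat.pow_le_pow_iff_right (show 1 < 2 by norm_num)).1 ?_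
  calc 2 ^ e ≤ 2 * k * m ^ s := h
    _ ≤ 2 ^ (L + 2) * (2 ^ w) ^ s := Nat.mul_le_mul
        (by rw [pow_succ 2 (L + 1)]; omega) (Nat.pow_le_pow_left hm s)
    _ = 2 ^ (L + 2 + w * s) := by rw [pow_add 2 (L + 2) (w * s), pow_mul]

theorem not_smooth_large {m k : ℕ} (hk : 4096 ≤ k) (hm : 2 * k ≤ m) (h : Smooth m k) : False := by
  have hsq := sq_le_cube h (by omega) hm
  obtain ⟨L, hL1, hL2⟩ : ∃ L, 2 ^ L ≤ k ∧ k < 2 ^ (L + 1) :=
    ⟨Nat.log 2 k, Nat.pow_log_le_self 2 (by omega), Nat.lt_pow_succ_log_self (by norm_num) k⟩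
  have hL : 12 ≤ L := by
    by_contra hlt
    have := Nat.pow_le_pow_right (show 1 ≤ 2 by norm_num) (show L + 1 ≤ 12 by omega)
    omega
  have hL0 : L ≤ k / 64 := by
    have := exp_bound_linear L hL
    rw [Nat.le_div_iff_mul_le (by norm_num)]
    nlinarith
  set t := Nat.sqrt m with ht
  have ht2 : t * t ≤ m := Nat.sqrt_le m
  have ht90 : 90 ≤ t := Nat.le_sqrt.2 (by omega)
  have hs := two_mul_primeCounting t
  set s := π t with hs'
  have hlow := two_mul_pow_le_choose (show 0 < k by omega) hm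
  by_cases hA : 2 * m < 5 * k
  · -- close to `2 k`
    have hup := choose_le_split (B := m / 3) h (by omega) (by omega) fun p hp h1 h2 h3 =>
      Nat.factorization_choose_of_lt_three_mul (by omega) h2 (by omega) (by omega)
    rw [← ht, ← hs'] at hup
    have h1 : (4 * k) ^ k ≤ (2 * m) ^ k := Nat.pow_le_pow_left (by omega) k
    have h2 : (4 : ℕ) ^ k * k ^ k ≤ 2 * k * (m ^ s * 4 ^ (m / 3)) * k ^ k := by
      rw [← mul_pow]
      calc (4 * k) ^ k ≤ 2 * k * k ^ k * m.choose k := h1.trans hlow
        _ ≤ 2 * k * k ^ k * (m ^ s * 4 ^ (m / 3)) := Nat.mul_le_mul_left _ hup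
        _ = _ := by ring
    have h3 := Nat.le_of_mul_le_mul_right h2 (pow_pos (by omega) _)
    have h4 : 2 ^ (2 * (k - m / 3)) ≤ 2 * k * m ^ s := by
      refine Nat.le_of_mul_le_mul_right (c := 4 ^ (m / 3)) ?_ (pow_pos (by norm_num) _)
      rw [pow_mul, show (2 : ℕ) ^ 2 = 4 from rfl, ← pow_add, Nat.sub_add_cancel (by omega)]
      linarith
    have h5 := exponent_le h4 hL2 (w := L + 3) (by
      rw [pow_add, show (2 : ℕ) ^ 3 = 8 from rfl]; rw [pow_succ] at hL2; omega)
    have h6 := exp_bound_linear L hL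
    have h7 : 14 * ((L + 3) * (t + 2)) ≤ 6 * k := by
      apply Nat.mul_self_le_mul_self_iff.1
      have : 20 * ((t + 2) * (t + 2)) ≤ 22 * (t * t) := by nlinarith
      nlinarith
    have h8 : 2 * ((L + 3) * s) ≤ (L + 3) * (t + 2) := by nlinarith
    omega
  have hup := choose_le_split (B := k) h (by omega) (by omega) fun p _ h1 h2 _ => absurd h1 (by omega)
  rw [← ht, ← hs'] at hup
  have hmain : ∀ a b : ℕ, a * k ≤ b * (2 * m) → a ^ k ≤ 2 * k * m ^ s * (4 * b) ^ k := by
    intro a b hab
    refine Nat.le_of_mul_le_mul_right (c := k ^ k) ?_ (pow_pos (by omega) _)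
    rw [← mul_pow]
    calc (a * k) ^ k ≤ b ^ k * (2 * m) ^ k := by rw [← mul_pow]; exact Nat.pow_le_pow_left hab k
      _ ≤ b ^ k * (2 * k * k ^ k * (m ^ s * 4 ^ k)) :=
          Nat.mul_le_mul_left _ (hlow.trans (Nat.mul_le_mul_left _ hup))
      _ = _ := by rw [mul_pow]; ring
  by_cases hB : m < 4 * k
  · -- `5/2 k ≤ m < 4 k`
    have h1 := hmain 5 1 (by omega)
    rw [mul_one] at h1
    have h2 : 2 ^ (9 * (k / 28)) * 4 ^ k ≤ 5 ^ k := by
      have hk28 := Nat.div_add_mod k 28
      conv_lhs => arg 2; rw [← hk28, pow_add, pow_mul]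
      conv_rhs => rw [← hk28, pow_add, pow_mul]
      rw [← mul_assoc, pow_mul, ← mul_pow]
      exact Nat.mul_le_mul (Nat.pow_le_pow_left (by norm_num) _)
        (Nat.pow_le_pow_left (by norm_num) _)
    have h4 : 2 ^ (9 * (k / 28)) ≤ 2 * k * m ^ s :=
      Nat.le_of_mul_le_mul_right (h2.trans h1) (pow_pos (by norm_num) _)
    have h5 := exponent_le h4 hL2 (w := L + 3) (by
      rw [pow_add, show (2 : ℕ) ^ 3 = 8 from rfl]; rw [pow_succ] at hL2; omega)
    have h6 := exp_bound_linear L hL
    have h7 : 14 * ((L + 3) * (t + 2)) ≤ 8 * k := by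
      apply Nat.mul_self_le_mul_self_iff.1
      have : 20 * ((t + 2) * (t + 2)) ≤ 22 * (t * t) := by nlinarith
      nlinarith
    have h8 : 2 * ((L + 3) * s) ≤ (L + 3) * (t + 2) := by nlinarith
    have hk28 := Nat.div_add_mod k 28
    have := Nat.mod_lt k (show 28 > 0 by norm_num)
    omega
  by_cases hC : m < 16 * k
  · -- `4 k ≤ m < 16 k`
    have h1 := hmain 8 1 (by omega)
    rw [mul_one, show (8 : ℕ) = 2 * 4 from rfl, mul_pow] at h1
    have h4 : 2 ^ k ≤ 2 * k * m ^ s := Nat.le_of_mul_le_mul_right h1 (pow_pos (by norm_num) _)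
    have h5 := exponent_le h4 hL2 (w := L + 5) (by
      rw [pow_add, show (2 : ℕ) ^ 5 = 32 from rfl]; rw [pow_succ] at hL2; omega)
    have h6 := exp_bound_linear' L hL
    have h7 : 4 * ((L + 5) * (t + 2)) ≤ 6 * k := by
      apply Nat.mul_self_le_mul_self_iff.1
      have : (t + 2) * (t + 2) ≤ 2 * (t * t) := by nlinarith
      nlinarith
    have h8 : 2 * ((L + 5) * s) ≤ (L + 5) * (t + 2) := by nlinarith
    omega
  · -- `16 k ≤ m`
    have h1 := hmain 32 1 (by omega)
    rw [mul_one, show (32 : ℕ) = 8 * 4 from rfl, mul_pow] at h1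
    have h4 : 2 ^ (3 * k) ≤ 2 * k * m ^ s := by
      rw [pow_mul]
      exact Nat.le_of_mul_le_mul_right h1 (pow_pos (by norm_num) _)
    have hmk : m ≤ 2 ^ (2 * L + 2) := by
      rw [show 2 * L + 2 = (L + 1) * 2 by ring, pow_mul]
      refine le_trans ?_ (Nat.pow_le_pow_left hL2.le 2)
      have : m ^ 2 ≤ (k ^ 2) ^ 2 := hsq.trans (by
        rw [← pow_mul]; exact Nat.pow_le_pow_right (by omega) (by norm_num))
      exact (Nat.pow_le_pow_iff_left two_ne_zero).1 this
    have h5 := exponent_le h4 hL2 (w := 2 * L + 2) hmk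
    have h6 := exp_bound_quartic L hL
    have h7 : (L + 1) * t ≤ 2 * k := by
      refine (Nat.pow_le_pow_iff_left (show 4 ≠ 0 by norm_num)).1 ?_
      rw [mul_pow, mul_pow]
      calc (L + 1) ^ 4 * t ^ 4 ≤ (8 * k) * k ^ 3 := by
            refine Nat.mul_le_mul (h6.trans (Nat.mul_le_mul_left 8 hL1)) ?_
            rw [show (4 : ℕ) = 2 * 2 from rfl, pow_mul]
            exact (Nat.pow_le_pow_left (by rw [sq]; exact ht2) 2).trans hsq
        _ ≤ 2 ^ 4 * k ^ 4 := by rw [show 8 * k * k ^ 3 = 8 * k ^ 4 by ring]; omega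
    have h8 : (2 * L + 2) * s ≤ (L + 1) * t + 2 * (L + 1) := by nlinarith
    omega

/-- Sylvester–Schur: `m.choose k` has a prime divisor exceeding `k` if `2 k ≤ m`. -/
theorem exists_prime_gt_dvd_choose {m k : ℕ} (hk : 1 ≤ k) (hm : 2 * k ≤ m) :
    ∃ p : ℕ, p.Prime ∧ k < p ∧ p ∣ m.choose k := by
  by_contra hno
  have h : Smooth m k := fun p hp hd => by
    by_contra hlt
    exact hno ⟨p, hp, by omega, hd⟩
  rcases Nat.lt_or_ge k 33 with h1 | h1
  · exact not_smooth_of_lt hk h1 hm h
  rcases Nat.lt_or_ge k 4096 with h2 | h2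
  · obtain ⟨p, hp, hp1, hp2⟩ := prime_near (by omega) h2 hm (sq_le_cube h h1 hm)
    have := h p hp (prime_dvd_choose (i := m - p) hp (by omega) (by omega)
      (by rw [Nat.sub_sub_self hp1]))
    omega
  · exact not_smooth_large h2 hm h

end CfsgLib.Char.SylvesterSchur
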